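set_option autoImplicit false
namespace Cfsg.Agent.Lib.Helper6.TCD.HeU1
noncomputable def NH (i : Nat) : Nat := Nat.land (Nat.shiftRight 0x170400000002e0800000005c100000000b820000000170400000002e0800000005c100000000b820000000170400000002e0800000005c100000000b820000000170400000002e0800000005c100000000b820000000170400000002e0800000005c100000000b820000000170400000002e0800000005c100000000b820000000170400000002e0800000005c100000000b820000000170400000002e0800000005c100000000b820000000170400000002e0800000005c100000000b820000000170400000002e0800000005c100000000b820000000170400000002e0800000005c100000000b820000000170400000002e0800000005c100000000b820000000170400000002e0800000005c100000000b820000000170400000002e0800000005c100000000842000a0001704000000020f8005d8005c100000000b820000000170400000002e0800000003ec000b7000b8200000000fc000138002e0800000003ee000b3000b820000000170400000002e0800000005c100000000b820000000170400000002e0800000005c100000000b820000000170400000002e0800000005c100000000b820000000170400000002e0800000005c100000000b820000000170400000002e0800000005c100000000b820000000170400000002e0800000005c100000000b820000000170400000002e0800000005c100000000b820000000170400000002e0800000005c100000000b820000000170400000002e0800000005c100000000b820000000170400000002e0800000005c100000000b820000000170400000002e0800000005c100000000b8200000001704000000020f000418005c100000000b820000000170400000002e0800000005c1000000007da000fc0017040000000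2e0800000005c100000000b820000000170400000002e0800000005c100000000b820000000170400000002e0800000005c100000000b820000000170400000002e0800000005c100000000b820000000170400000002e0800000005c100000000b820000000170400000002e0800000005c100000000b820000000170400000002e0800000005c100000000b820000000170400000002e0800000005c100000000b820000000170400000002e0800000005c100000000b820000000170400000002e0800000005c100000000b820000000170400000002e0800000005c100000000b820000000170400000002e0800000005c100000000b820000000170400000002e0800000005c100000000b820000000170400000002e0800000005c100000000b820000000170400000002e0800000005c100000000b820000000170400000002e0800000005c100000000b820000000170400000002e0800000005c100000000b820000000170400000002e0800000005c100000000b820000000170400000002e0800000005c100000000b820000000170400000002e0800000005c100000000b820000000170400000002e0800000005c100000000b820000000170400000002e0800000005c100000000b820000000170400000002e0800000005c100000000b820000000170400000002e0800000005c100000000b820000000170400000002e0800000005c100000000b820000000170400000002e0800000005c100000000b820000000170400000002e0800000005c100000000b820000000170400000002e0800000005c100000000b820000000170400000002e0800000005c100000000b820000000170400000002e0800000005c100000000b820000000170400000002e0800000005c100000000b820000000170400000002e0800000005c100000 (Nat.mul 43 (Nat.land i 1023))) 8796093022207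
end Cfsg.Agent.Lib.Helper6.TCD.HeU1
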