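set_option autoImplicit false
namespace Cfsg.Agent.Lib.Helper6.TCD.HeU1
noncomputable def WDL0 (i : Nat) : Nat := Nat.land (Nat.shiftRight 0x50504000000000000000050500400000000000000000404040000000000000000404004000000000000000003030400000000000000003030040000000000000000020204000000000000000020200400000000000000000101040000000000000000101004000000000000000000550200000000000000000044020000000000000000003302000000000000000000220200000000000000000011020000000000000000000002 (Nat.mul 88 (Nat.land i 15))) 309485009821345068724781055
noncomputable def WDL1 (i : Nat) : Nat := Nat.land (Nat.shiftRight 0x343404000000000000000043430400000000000000252525060000000000000052525206000000000000002424240600000000000000424242060000000000000023232306000000000000003232320600000000000000001515040000000000000000515104000000000000000014140400000000000000004141040000000000000000131304000000000000000031310412121212121212121212142121212121212121212114 (Nat.mul 88 (Nat.land i 15))) 309485009821345068724781055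
noncomputable def WDP0N0 (i : Nat) : Nat := Bool.rec (WDL0 i) (WDL1 i) (Nat.ble 16 i)
noncomputable def WDL2 (i : Nat) : Nat := Nat.land (Nat.shiftRight 0x12121212120b000000000121212121200b00000000000000054543050000000000000004543505000000000000000543540500000000000000043545050000000000000003545405000000000000000545340500000000000000045345050000000000000005345405000000000000000345450500000000000000045453050000000000004545454508000000000000545454540800000000000000003535040000000000000000535304 (Nat.mul 88 (Nat.land i 15))) 309485009821345068724781055
noncomputable def WDL3 (i : Nat) : Nat := Nat.land (Nat.shiftRight 0x212121021210b000000000121210212120b000000000212102121210b000000000121021212120b000000000210212121210b000000000102121212120b000000000021212121210b000000000212121212010b000000000121212120120b000000000212121201210b000000000121212012120b000000000212120121210b000000000121201212120b000000000212012121210b000000000120121212120b000000000201212121210b (Nat.mul 88 (Nat.land i 15))) 309485009821345068724781055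
noncomputable def WDP0N1 (i : Nat) : Nat := Bool.rec (WDL2 i) (WDL3 i) (Nat.ble 48 i)
noncomputable def WDP0N2 (i : Nat) : Nat := Bool.rec (WDP0N0 i) (WDP0N1 i) (Nat.ble 32 i)
noncomputable def WDL4 (i : Nat) : Nat := Nat.land (Nat.shiftRight 0x1213212321212320f000002132123212123210f000001321232121232120f000003212321212321210f00002451245124512451100000451245124512451210000051245124512451241000001245124512451245100000421542154215421510000021542154215421541000001542154215421542100000542154215421542110000000000212121212100b000000000121212121020b000000000212121210210b000000000121212102120b (Nat.mul 88 (Nat.land i 15))) 309485009821345068724781055
noncomputable def WDL5 (i : Nat) : Nat := Nat.land (Nat.shiftRight 0x2123121232121230f000001231212321212320f000002312123212123210f000003121232121232120f000001212321212321230f000002123212123212130f000001232121232121320f000002321212321213210f000003212123212132120f000002121232121321230f000001212321213212320f000002123212132123210f000001232121321232120f000002321213212321210f000003212132123212120f000002121321232121230f (Nat.mul 88 (Nat.land i 15))) 309485009821345068724781055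
noncomputable def WDP0N3 (i : Nat) : Nat := Bool.rec (WDL4 i) (WDL5 i) (Nat.ble 80 i)
noncomputable def WDL6 (i : Nat) : Nat := Nat.land (Nat.shiftRight 0x5010000000000000000000401000000000000000000030100000000000000000002010000000000000000000001000002123212123212310f000001232121232123120f000002321212321231210f000003212123212312120f000002121232123121230f000001212321231212320f000002123212312123210f000001232123121232120f000002321231212321210f000003212312123212120f (Nat.mul 88 (Nat.land i 15))) 309485009821345068724781055
noncomputable def WDP0N4 (i : Nat) : Nat := Bool.rec (WDP0N3 i) (WDL6 i) (Nat.ble 96 i)
noncomputable def WD (i : Nat) : Nat := Bool.rec (WDP0N2 i) (WDP0N4 i) (Nat.ble 64 i)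
end Cfsg.Agent.Lib.Helper6.TCD.HeU1
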