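set_option autoImplicit false
namespace Cfsg.Agent.Lib.Helper6.TCD.HeU1
noncomputable def WI (i : Nat) : Nat := Nat.land (Nat.shiftRight 0x21c310d18860c42c6214310918840c41c620c310518820c40c6204310118800c038601a300c18058c0286012300818038c018600a300418018c0086002300018818bc085e022f0017018b8085c022e0017850b4245a102d0716830b4145a082d0316810b4045a002c0a16048b020580e2c0616028b01058062c0216008b0005a082b0315810ac0456002a0415018a80854022a0015008a000500226001300890004802220011008800040021e000f008700038021a000d0086000300216000b00850002802120009008400020020e0007008300018000a000400018000800020000 (Nat.mul 17 (Nat.land i 255))) 131071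
end Cfsg.Agent.Lib.Helper6.TCD.HeU1
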